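import Cfsg.Agent.CoTwoType.Setting
import Cfsg.Agent.TwoClassClosed.Singular
import Cfsg.Agent.TwoClassClosed.Weak

/-!
The second Conway group from a centralizer of an element of order three: the interface of the module
stage.

`M` stands for `C(t) / ⟨t⟩`, `K` for the elementary abelian group `O₂ / ⟨t⟩` of order `2 ^ 8` in the
coordinates of the spin space, `L` for its normalizer.  The image of `L` on `K` is the spin image of
`Sp(6, 2)` or of its subgroup `U4(2):2`, and the elements of order three of `L` with a fixed point on
`K` fix only one coset of `L`.  The module stage shows `L = ⊤`.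
-/

set_option autoImplicit false

namespace Cfsg.Agent.CoTwoThree

open Cfsg.Agent.CoTwoType Cfsg.Agent.CoOneType

universe u

/-- The quadratic form of minus type on the codes of the six-dimensional space. -/
def qMinus (a : ℕ) : Bool := q6 a != (a.testBit 0 != a.testBit 3)

/-- The images of the thirty-six transvections with centre off the minus quadric. -/
def u4Gens : Set O :=
  {o | ∃ a : Fin 64, qMinus a.val = true ∧ ∀ v : Fin 256, o.1 (dc v.val) = dc (tn a.val v.val)}

/-- The spin image of `U4(2):2 = O6-(2)`. -/
def u4 : Subgroup O := Subgroup.closure u4Gens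

/-- The data on `M = C(t) / ⟨t⟩`. -/
structure CTData (M : Type u) [Group M] where
  /-- the normalizer of `K` -/
  L : Subgroup M
  /-- the coordinates of `K` -/
  co : Multiplicative V →* M
  co_inj : Function.Injective co
  co_le : co.range ≤ L
  normalizer_le : Subgroup.normalizer (co.range : Set M) ≤ L
  /-- the action of `L` on the coordinates -/
  act : ↥L →* O
  act_co : ∀ (l : ↥L) (v : V),
    (l : M) * co (Multiplicative.ofAdd v) * (l : M)⁻¹ = co (Multiplicative.ofAdd ((act l).1 v))
  act_ker : ∀ l : ↥L, act l = 1 → (l : M) ∈ co.range
  act_range : act.range = u4 ∨ act.range = sp6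
  three : ∀ e ∈ L, e ^ 3 = 1 → e ≠ 1 → (∃ k ∈ co.range, k ≠ 1 ∧ Commute e k) →
    TwoClassClosed.Rigid L e

/-- **The module stage.** -/
def CTStmt : Prop := ∀ (M : Type u) [Group M] [Finite M] (D : CTData M), D.L = ⊤

end Cfsg.Agent.CoTwoThree
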