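import Cfsg.Agent.CoTwoThree.Local
import Cfsg.Prelude.Def_Classical

/-!
The second Conway group from a centralizer of an element of order three: what the stage on the
involution gives.
-/

set_option autoImplicit false

open Subgroup

namespace Cfsg.Agent.CoTwoThree

universe u

/-- The centralizer of `t` normalizing `K`. -/
def Local.normC {G : Type u} [Group G] (D : Local G) (K : Subgroup G) : Subgroup G :=
  normalizer (K : Set G) ⊓ centralizer ({D.t} : Set G)

/-- The data on the involution. -/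
structure KData {G : Type u} [Group G] (D : Local G) where
  /-- The extraspecial subgroup. -/
  K : Subgroup G
  leK : K ≤ centralizer ({D.t} : Set G)
  extK : IsExtraspecial 2 ↥K
  cardK : Nat.card ↥K = 2 ^ 9
  tK : D.t ∈ K
  selfK : D.normC K ⊓ centralizer (K : Set G) ≤ K
  /-- The elements of order three fix nothing in `K / ⟨t⟩` together. -/
  free : ∀ k ∈ K, (∀ e ∈ D.normC K, e ^ 3 = 1 → e * k * e⁻¹ * k⁻¹ ∈ zpowers D.t) → k ∈ zpowers D.t
  quot : ∃ (_ : (K.subgroupOf (D.normC K)).Normal),
    Nonempty (↥(D.normC K) ⧸ K.subgroupOf (D.normC K) ≃* MulAut (PSp 2 (ZMod 3))) ∨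
      Nonempty (↥(D.normC K) ⧸ K.subgroupOf (D.normC K) ≃* Matrix.symplecticGroup (Fin 3) (ZMod 2))
  /-- An element of order three fixing a non-trivial coset in `K / ⟨t⟩` fixes only one coset. -/
  rigid : ∀ e ∈ D.normC K, e ^ 3 = 1 → e ≠ 1 →
    (∃ k ∈ K, k ∉ zpowers D.t ∧ e * k * e⁻¹ * k⁻¹ ∈ zpowers D.t) →
    ∀ g ∈ centralizer ({D.t} : Set G), g * e * g⁻¹ ∈ D.normC K → g ∈ D.normC K
  /-- An element of order fifteen centralizes `t`. -/
  fifteen : ∃ b f : G, b ∈ centralizer ({D.t} : Set G) ∧ f ∈ centralizer ({D.t} : Set G) ∧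
    orderOf b = 3 ∧ orderOf f = 5 ∧ Commute b f

/-- **The involution stage.** -/
def KStmt : Prop := ∀ (G : Type u) [Group G] [Finite G] (D : Local G), Nonempty (KData D)

end Cfsg.Agent.CoTwoThree
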