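import Cfsg.Agent.CoTwoThree.Id.Data
import Cfsg.Agent.SpecU42.Spectrum
import Cfsg.Agent.CoTwoUniq.Main
import Mathlib.GroupTheory.FixedPointFree

/-!
The second Conway group from a centralizer of an element of order three: assembly.  `C(t)` is the
normalizer of `K` there, an element of order fifteen makes the quotient `Sp(6, 2)`, and the
recognition by the centralizer of an involution applies.
-/

set_option autoImplicit false
set_option linter.unusedSectionVars false

open Cfsg Subgroup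

namespace Cfsg.Agent.CoTwoThree

universe u

/-- `Aut PSp₄(3)` has no element of order fifteen. -/
theorem no_fifteen_autPSp (y : MulAut (Cfsg.PSp 2 (ZMod 3))) (h15 : y ^ 15 = 1) : y ^ 3 = 1 ∨ y ^ 5 = 1 := by
  haveI : Fact (Nat.Prime 3) := ⟨by norm_num⟩
  let i : Cfsg.PSp 2 (ZMod 3) →* MulAut (Cfsg.PSp 2 (ZMod 3)) := MulAut.conj
  have hi : Function.Injective i := by
    haveI := (U62Rec.Sp43.model).simple
    refine (MonoidHom.ker_eq_bot_iff i).1 ?_
    rcases (inferInstance : i.ker.Normal).eq_bot_or_eq_top with h | h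
    · exact h
    · exfalso
      apply (U62Rec.Sp43.model).rels.ne
      have h1 : i ((U62Rec.Sp43.model).d 0) = 1 := MonoidHom.mem_ker.1 (h ▸ Subgroup.mem_top _)
      have := DFunLike.congr_fun h1 (U62Rec.Sp43.model).u
      simp only [i, MulAut.conj_apply, MulAut.one_apply] at this
      exact (mul_inv_eq_iff_eq_mul.1 this).symm
  have hidx : i.range.index = 2 := by
    have h := i.range.card_mul_index
    rw [← Nat.card_congr (MonoidHom.ofInjective hi).toEquiv, card_autPSp, U62Rec.card_psp_three] at h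
    omega
  have hy : y ∈ i.range := by
    have h2 := Subgroup.sq_mem_of_index_two hidx y
    have h16 := pow_mem h2 8
    rw [← pow_mul, pow_succ, h15, one_mul] at h16
    exact h16
  obtain ⟨x, rfl⟩ := hy
  have hx : x ^ 15 = 1 := hi (by rw [map_pow, map_one, h15])
  have hd : orderOf x ∣ 15 := orderOf_dvd_of_pow_eq_one hx
  rcases SpecU42.psp_order_dvd (ZMod.card 3) x with h | h | h
  · right; rw [← map_pow, orderOf_dvd_iff_pow_eq_one.1 h, map_one]
  · left
    have : orderOf x ∣ 3 := Nat.dvd_gcd hd h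
    rw [← map_pow, orderOf_dvd_iff_pow_eq_one.1 this, map_one]
  · left
    have : orderOf x ∣ 3 := Nat.dvd_gcd hd h
    rw [← map_pow, orderOf_dvd_iff_pow_eq_one.1 this, map_one]

/-- `Sp(6, 2)` is simple. -/
theorem isSimpleGroup_sp6 : IsSimpleGroup CoTwoType.Sp6 := by
  have hc : center CoTwoType.Sp6 = ⊥ := card_eq_one.1 (by
    rw [Classical.card_center_symplectic (by norm_num), ZMod.card]; rfl)
  have hs : IsSimpleGroup (Cfsg.PSp 3 (ZMod 2)) := Classical.isSimpleGroup_psp (by norm_num) (by norm_num)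
  exact ((QuotientGroup.quotientMulEquivOfEq hc).trans QuotientGroup.quotientBot).symm.isSimpleGroup

section cent

variable {G : Type u} [Group G] [Finite G]

/-- The centralizer of `t` from its description as `N(K) ⊓ C(t)`. -/
theorem cent_facts {t : G} {N K : Subgroup G} (hN : N = centralizer ({t} : Set G)) (hKN : K ≤ N)
    (hext : IsExtraspecial 2 ↥K) (hcard : Nat.card ↥K = 2 ^ 9) (hself : N ⊓ centralizer (K : Set G) ≤ K)
    (hquot : ∃ (_ : (K.subgroupOf N).Normal),
      Nonempty (↥N ⧸ K.subgroupOf N ≃* MulAut (PSp 2 (ZMod 3))) ∨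
        Nonempty (↥N ⧸ K.subgroupOf N ≃* Matrix.symplecticGroup (Fin 3) (ZMod 2)))
    (h15 : ∃ x ∈ N, x ^ 15 = 1 ∧ x ^ 3 ≠ 1 ∧ x ^ 5 ≠ 1) :
    IsPConstrained 2 ↥(centralizer ({t} : Set G)) ∧ IsExtraspecial 2 (pCore 2 ↥(centralizer ({t} : Set G))) ∧
      Nat.card (pCore 2 ↥(centralizer ({t} : Set G))) = 2 ^ 9 ∧
      Nonempty ((↥(centralizer ({t} : Set G)) ⧸ pCore 2 ↥(centralizer ({t} : Set G))) ≃*
        Matrix.symplecticGroup (Fin 3) (ZMod 2)) ∧ pPrimeCore 2 ↥(centralizer ({t} : Set G)) = ⊥ := by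
  subst hN
  haveI : Fact (Nat.Prime 2) := ⟨Nat.prime_two⟩
  set C := centralizer ({t} : Set G)
  set Q := K.subgroupOf C
  obtain ⟨hn, hq⟩ := hquot
  have hQ2 : IsPGroup 2 ↥Q :=
    (IsPGroup.of_card hcard).of_equiv (subgroupOfEquivOfLe hKN).symm
  obtain ⟨e⟩ : Nonempty (↥C ⧸ Q ≃* Matrix.symplecticGroup (Fin 3) (ZMod 2)) := by
    refine hq.resolve_left ?_
    rintro ⟨e⟩
    obtain ⟨x, hx, hx15, hx3, hx5⟩ := h15
    set y := e (QuotientGroup.mk ⟨x, hx⟩)
    have key : ∀ n, y ^ n = 1 → (⟨x, hx⟩ : ↥C) ^ n ∈ Q := fun n hn => by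
      rw [← map_pow, MulEquiv.map_eq_one_iff, ← QuotientGroup.mk_pow, QuotientGroup.eq_one_iff] at hn
      exact hn
    have kill : ∀ n, x ^ n ∈ K → x ^ n = 1 := fun n hn => by
      obtain ⟨k, hk⟩ := IsPGroup.of_card hcard ⟨x ^ n, hn⟩
      have hk' : (x ^ n) ^ 2 ^ k = 1 := congrArg Subtype.val hk
      have h1 : (x ^ n) ^ 15 = 1 := by rw [← pow_mul, mul_comm, pow_mul, hx15, one_pow]
      have hg : Nat.Coprime 15 (2 ^ k) := Nat.Coprime.pow_right k (by norm_num)
      have := pow_gcd_eq_one.2 ⟨h1, hk'⟩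
      rwa [hg.gcd_eq_one, pow_one] at this
    have hy : y ^ 15 = 1 := by
      rw [← map_pow, ← QuotientGroup.mk_pow, show (⟨x, hx⟩ : ↥C) ^ 15 = 1 from Subtype.ext hx15,
        QuotientGroup.mk_one, map_one]
    rcases no_fifteen_autPSp y hy with h | h
    · exact hx3 (kill 3 (key 3 h))
    · exact hx5 (kill 5 (key 5 h))
  have hcore : pCore 2 ↥C = Q := by
    refine le_antisymm ?_ (Core.le_pCore hQ2)
    have h1 := Core.map_pCore_le_of_surjective (p := 2) (f := e.toMonoidHom.comp (QuotientGroup.mk' Q))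
      (e.surjective.comp (QuotientGroup.mk'_surjective _))
    have h2 : pCore 2 CoTwoType.Sp6 = ⊥ := by
      haveI := isSimpleGroup_sp6
      refine (Subgroup.Normal.eq_bot_or_eq_top Core.pCore_normal).resolve_right fun h => ?_
      obtain ⟨k, hk⟩ := IsPGroup.iff_card.1 (Core.pCore_isPGroup (p := 2) (G := CoTwoType.Sp6))
      rw [h, card_top, CoTwoType.sp6_card] at hk
      have h3 : 3 ∣ 2 ^ k := hk ▸ (by norm_num : 3 ∣ 1451520)
      exact absurd (Nat.Prime.dvd_of_dvd_pow Nat.prime_three h3) (by norm_num)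
    rw [show pCore 2 ↥(Matrix.symplecticGroup (Fin 3) (ZMod 2)) = ⊥ from h2, le_bot_iff,
      Subgroup.map_eq_bot_iff] at h1
    intro x hx
    have h3 := h1 hx
    rw [MonoidHom.mem_ker, MonoidHom.comp_apply, MulEquiv.coe_toMonoidHom, MulEquiv.map_eq_one_iff] at h3
    exact (QuotientGroup.eq_one_iff x).1 h3
  have hcent : centralizer (Q : Set ↥C) ≤ Q := fun d hd =>
    hself ⟨d.2, mem_centralizer_iff.2 fun g hg =>
      congrArg Subtype.val (mem_centralizer_iff.1 hd ⟨g, hKN hg⟩ hg)⟩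
  have hO : pPrimeCore 2 ↥C = ⊥ := by
    have hd : pPrimeCore 2 ↥C ⊓ Q = ⊥ := by
      rw [inf_comm]
      exact Layer.inf_eq_bot_of_isPGroup hQ2 Core.coprime_card_pPrimeCore
    refine le_bot_iff.1 (hd ▸ le_inf le_rfl fun x hx => hcent (mem_centralizer_iff.2 fun q hq => ?_))
    exact (Subgroup.commute_of_normal_of_disjoint _ _ Core.pPrimeCore_normal hn
      (disjoint_iff.2 hd) x q hx hq).eq.symm
  refine ⟨?_, ?_, ?_, ?_, hO⟩
  · refine Layer.isPConstrained_iff_selfCentral.2 (Layer.pCoreSelfCentral_congr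
      (((QuotientGroup.quotientMulEquivOfEq hO).trans QuotientGroup.quotientBot).symm) ?_)
    show centralizer (pCore 2 ↥C : Set ↥C) ≤ pCore 2 ↥C
    rw [hcore]
    exact hcent
  · rw [hcore]
    exact LargeExtra.extraspecial_congr (subgroupOfEquivOfLe hKN).symm hext
  · rw [hcore, Nat.card_congr (subgroupOfEquivOfLe hKN).toEquiv, hcard]
  · exact ⟨(QuotientGroup.quotientMulEquivOfEq hcore).trans e⟩

end cent

/-- **The recognition from the local, the involution and the module stages.** -/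
theorem iso_of_stages (hK : KStmt.{u}) (hC : CTStmt.{u}) {G : Type u} [Group G] [Finite G] (D : Local G) :
    Cfsg.Spor.IsoCo2 G := by
  classical
  haveI : Fact (Nat.Prime 2) := ⟨Nat.prime_two⟩
  obtain ⟨KD⟩ := hK G D
  have hN : D.normC KD.K = centralizer ({D.t} : Set G) :=
    le_antisymm inf_le_right (centralizer_le_normC KD hC)
  obtain ⟨b, f, hb, hf, hbo, hfo, hbf⟩ := KD.fifteen
  have hx : orderOf (b * f) = 15 := by
    rw [hbf.orderOf_mul_eq_mul_orderOf_of_coprime (by rw [hbo, hfo]; decide), hbo, hfo]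
  have hpow : ∀ n, (b * f) ^ n = 1 → 15 ∣ n := fun n h => hx ▸ orderOf_dvd_of_pow_eq_one h
  obtain ⟨hcon, hQ, hcard, ⟨e⟩, hOC⟩ := cent_facts hN KD.le_normC KD.extK KD.cardK KD.selfK KD.quot
    ⟨b * f, hN ▸ mul_mem hb hf, by rw [← hx]; exact pow_orderOf_eq_one _,
      fun h => absurd (hpow 3 h) (by decide), fun h => absurd (hpow 5 h) (by decide)⟩
  have ht2 : D.t * D.t = 1 := by
    have := pow_orderOf_eq_one D.t
    rwa [D.ot, pow_two] at this
  -- no normal subgroup of odd order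
  have hO : oddCore G = ⊥ := by
    set N := pPrimeCore 2 G with hNdef
    show N = ⊥
    have hNn : N.Normal := Core.pPrimeCore_normal
    have hodd : (Nat.card ↥N).Coprime 2 := Core.coprime_card_pPrimeCore
    have hfix : ∀ n ∈ N, Commute D.t n → n = 1 := fun n hn hc => by
      have hnC : n ∈ centralizer ({D.t} : Set G) := mem_centralizer_singleton_iff.2 hc.eq.symm
      have hmem : (⟨n, hnC⟩ : ↥(centralizer ({D.t} : Set G))) ∈ pPrimeCore 2 ↥(centralizer ({D.t} : Set G)) := by
        haveI : (N.subgroupOf (centralizer ({D.t} : Set G))).Normal := hNn.subgroupOf _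
        refine Core.le_pPrimeCore ?_ (mem_subgroupOf.2 hn)
        rw [← inf_subgroupOf_right, Nat.card_congr (subgroupOfEquivOfLe inf_le_right).toEquiv]
        exact hodd.coprime_dvd_left (card_dvd_of_le inf_le_left)
      rw [hOC, mem_bot] at hmem
      exact congrArg Subtype.val hmem
    let φ : ↥N →* ↥N := (MulAut.conjNormal D.t).toMonoidHom
    have hfpf : MonoidHom.FixedPointFree φ := fun n hn => Subtype.ext (hfix n n.2 (by
      have h := congrArg Subtype.val hn
      exact mul_inv_eq_iff_eq_mul.1 ((MulAut.conjNormal_apply D.t n).symm.trans h)))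
    have hinv2 : Function.Involutive φ := fun n => Subtype.ext (by
      show ((MulAut.conjNormal D.t) ((MulAut.conjNormal D.t) n) : G) = n
      rw [MulAut.conjNormal_apply, MulAut.conjNormal_apply,
        show D.t * (D.t * (n : G) * D.t⁻¹) * D.t⁻¹ = D.t * D.t * n * (D.t * D.t)⁻¹ by group, ht2]
      simp)
    have hinv := hfpf.coe_eq_inv_of_involutive hinv2
    have htinv : ∀ n ∈ N, D.t * n * D.t⁻¹ = n⁻¹ := fun n hn =>
      (MulAut.conjNormal_apply D.t ⟨n, hn⟩).symm.trans (congrArg Subtype.val (congrFun hinv ⟨n, hn⟩))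
    have hcomm : ∀ a ∈ N, ∀ c ∈ N, Commute a c := fun a ha c hc => congrArg Subtype.val
      (hfpf.commute_all_of_involutive hinv2 ⟨a, ha⟩ ⟨c, hc⟩).eq
    -- the part of order prime to three
    set m := ordCompl[3] (Nat.card ↥N)
    let X : Subgroup G :=
      { carrier := {x | x ∈ N ∧ x ^ m = 1}
        one_mem' := ⟨one_mem N, one_pow m⟩
        mul_mem' := fun {a c} ha hc => ⟨mul_mem ha.1 hc.1, by
          rw [(hcomm a ha.1 c hc.1).mul_pow, ha.2, hc.2, one_mul]⟩
        inv_mem' := fun {a} ha => ⟨inv_mem ha.1, by rw [inv_pow, ha.2, inv_one]⟩ }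
    have hm3 : ¬ 3 ∣ m := Nat.not_dvd_ordCompl Nat.prime_three Nat.card_pos.ne'
    have hX3 : (Nat.card ↥X).Coprime 3 := by
      rw [Nat.coprime_comm, Nat.Prime.coprime_iff_not_dvd Nat.prime_three]
      intro h
      haveI : Fact (Nat.Prime 3) := ⟨Nat.prime_three⟩
      obtain ⟨x, hx⟩ := exists_prime_orderOf_dvd_card' 3 h
      exact hm3 (hx ▸ orderOf_dvd_of_pow_eq_one (Subtype.ext (by
        rw [SubmonoidClass.coe_pow]; exact x.2.2)))
    have hXn : X.Normal := ⟨fun x hx g => ⟨hNn.conj_mem x hx.1 g, by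
      rw [conj_pow, hx.2, mul_one, mul_inv_cancel]⟩⟩
    have hXbot : X = ⊥ := D.sig X hX3 (by rw [normalizer_eq_top]; exact le_top)
    have hN3 : IsPGroup 3 ↥N := fun n => ⟨(Nat.card ↥N).factorization 3, by
      have hmem : ((n : G) ^ 3 ^ (Nat.card ↥N).factorization 3) ∈ X := ⟨pow_mem n.2 _, by
        rw [← pow_mul, Nat.ordProj_mul_ordCompl_eq_self]
        exact congrArg Subtype.val (pow_card_eq_one' (x := n))⟩
      rw [hXbot, mem_bot] at hmem
      exact Subtype.ext hmem⟩
    by_contra hne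
    have hz := D.minimal N hNn hN3 hne
    have h1 := htinv _ hz
    rw [D.tz.eq, mul_inv_cancel_right] at h1
    have h2 : D.z ^ 2 = 1 := by rw [pow_two]; exact mul_eq_one_iff_eq_inv.2 h1
    have := orderOf_dvd_of_pow_eq_one h2
    rw [D.oz] at this
    exact absurd this (by decide)
  -- trivial centre
  have hZ : center G = ⊥ := by
    refine (Subgroup.eq_bot_iff_forall _).2 fun c hc => ?_
    have hcJ : c ∈ D.J := by
      rw [← D.centJ]
      exact mem_centralizer_iff.2 fun g _ => mem_center_iff.1 hc g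
    have hcC : c ∈ centralizer ({D.t} : Set G) :=
      mem_centralizer_singleton_iff.2 (mem_center_iff.1 hc D.t).symm
    have hcK : c ∈ KD.K := KD.selfK ⟨hN ▸ hcC, mem_centralizer_iff.2 fun g _ => mem_center_iff.1 hc g⟩
    obtain ⟨k, hk⟩ := IsPGroup.of_card KD.cardK ⟨c, hcK⟩
    have h81 : orderOf c ∣ 81 := D.card ▸ Subgroup.orderOf_dvd_natCard _ hcJ
    have h2 : c ^ 2 ^ k = 1 := congrArg Subtype.val hk
    have := pow_gcd_eq_one.2 ⟨orderOf_dvd_iff_pow_eq_one.1 h81, h2⟩
    rwa [Nat.Coprime.gcd_eq_one (Nat.Coprime.pow_right k (by norm_num)), pow_one] at this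
  exact CoTwoUniq.iso_of hO hZ D.t D.ot hcon hQ hcard e

end Cfsg.Agent.CoTwoThree
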