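import Cfsg.Prelude.Def_Transfer
import Cfsg.Prelude.Def_Solvable
import Cfsg.Prelude.Def_CaseTheorems
import Cfsg.Prelude.Def_Classical
import Mathlib.GroupTheory.SpecificGroups.Quaternion

/-!
The second Conway group from a centralizer of an element of order three: what the local stage gives.

`J` is elementary of order 81 in the coordinates of the sum-zero vectors of length six over the field
with three elements modulo the constant vectors: `j a b` is `e_a - e_b`, `z` is `e_0 + e_1 + e_2`, the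
form is the standard one.  So `z ^ G` meets `J` in the ten isotropic points `e_a + e_b + e_c`, and
`J ⊓ Q` is the space orthogonal to `z`.  The involution `t` is the transposition `(4 5)` on `J`; it
centralises `z`, so `C_J(t)` has the four points with triples inside `{0,1,2,3}`.
-/

set_option autoImplicit false

open Subgroup

namespace Cfsg.Agent.CoTwoThree

universe u

/-- The hypotheses of the statement. -/
structure Hyp (G : Type u) [Group G] [Finite G] (S : Sylow 3 G) (Z C : Subgroup G) : Prop where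
  hZ : Z = (S : Subgroup G) ⊓ centralizer ((S : Subgroup G) : Set G)
  hC : C = centralizer (Z : Set G)
  ext : IsExtraspecial 3 (pCore 3 C)
  card : Nat.card (pCore 3 C) = 3 ^ 5
  two : IsExtraspecial 2 (pCore 2 (C ⧸ pCore 3 C))
  twoCard : Nat.card (pCore 2 (C ⧸ pCore 3 C)) = 2 ^ 5
  alt : Nonempty ((C ⧸ pCore 3 C) ⧸ pCore 2 (C ⧸ pCore 3 C) ≃* alternatingGroup (Fin 5))
  nwc : ¬ IsWeaklyClosed Z S

/-- The local data. -/
structure Local (G : Type u) [Group G] where
  /-- The given element. -/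
  z : G
  /-- The largest normal 3-subgroup of its centralizer. -/
  Q : Subgroup G
  oz : orderOf z = 3
  extQ : IsExtraspecial 3 ↥Q
  cardQ : Nat.card ↥Q = 3 ^ 5
  cubeQ : ∀ q ∈ Q, q ^ 3 = 1
  zQ : z ∈ Q
  leQ : Q ≤ centralizer ({z} : Set G)
  normalQ : centralizer ({z} : Set G) ≤ normalizer (Q : Set G)
  selfQ : centralizer (Q : Set G) ≤ Q
  /-- The root elements. -/
  j : Fin 6 → Fin 6 → G
  /-- The subgroup they generate. -/
  J : Subgroup G
  span : J = closure (Set.range fun x : Fin 6 × Fin 6 => j x.1 x.2)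
  cube : ∀ a b, j a b * j a b * j a b = 1
  comm : ∀ a b c d, Commute (j a b) (j c d)
  cocycle : ∀ a b c, j a b * j b c = j a c
  card : Nat.card ↥J = 81
  hz : z = j 0 1 * j 2 1
  interQ : Q ⊓ J = closure {j 0 1, j 3 4, j 4 5}
  centJ : centralizer (J : Set G) = J
  perm : ∀ σ : Equiv.Perm (Fin 6), ∃ n ∈ normalizer (J : Set G), ∀ a b, n * j a b * n⁻¹ = j (σ a) (σ b)
  swap : ∃ n ∈ normalizer (J : Set G), n * j 0 1 * n⁻¹ = j 0 1 * j 2 3
  neg : ∃ n ∈ normalizer (J : Set G), ∀ a ∈ J, n * a * n⁻¹ = a⁻¹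
  cardN : Nat.card ↥(normalizer (J : Set G)) = 81 * 2880
  points : ∀ a ∈ J, IsConj z a → ∃ σ : Equiv.Perm (Fin 6), a = j (σ 0) (σ 1) * j (σ 2) (σ 1)
  fuse : ∀ a ∈ J, ∀ b ∈ J, IsConj a b → ∃ n ∈ normalizer (J : Set G), n * a * n⁻¹ = b
  /-- Outside `Q` the elements of `J` have their centralizers in `C(z)` normalising `J`. -/
  centOut : ∀ a ∈ J, a ∉ Q →
    centralizer ({z} : Set G) ⊓ centralizer ({a} : Set G) ≤ normalizer (J : Set G)
  /-- Only the trivial subgroup of order prime to three is normalised by `J`. -/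
  sig : ∀ X : Subgroup G, (Nat.card ↥X).Coprime 3 → J ≤ normalizer (X : Set G) → X = ⊥
  minimal : ∀ N : Subgroup G, N.Normal → IsPGroup 3 ↥N → N ≠ ⊥ → z ∈ N
  quotA : ∃ (_ : ((zpowers (j 0 1)).subgroupOf (centralizer ({j 0 1} : Set G))).Normal),
    Nonempty (↥(centralizer ({j 0 1} : Set G)) ⧸ (zpowers (j 0 1)).subgroupOf (centralizer ({j 0 1} : Set G))
      ≃* MulAut (PSp 2 (ZMod 3)))
  /-- The involution. -/
  t : G
  ot : orderOf t = 2
  tz : Commute t z
  tJ : ∀ a b, t * j a b * t⁻¹ = j (Equiv.swap 4 5 a) (Equiv.swap 4 5 b)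
  cardE : Nat.card ↥(Q ⊓ centralizer ({t} : Set G)) = 27
  centreE : ∀ e ∈ Q ⊓ centralizer ({t} : Set G),
    (∀ f ∈ Q ⊓ centralizer ({t} : Set G), Commute e f) → e ∈ zpowers z
  /-- The quaternion group centralising `Q ⊓ C(t)`. -/
  R : Subgroup G
  quatR : Nonempty (↥R ≃* QuaternionGroup 2)
  tR : t ∈ R
  leR : R ≤ centralizer ({z} : Set G) ⊓ centralizer ({t} : Set G)
  normalR : centralizer ({z} : Set G) ⊓ centralizer ({t} : Set G) ≤ normalizer (R : Set G)
  commR : ∀ r ∈ R, ∀ e ∈ Q ⊓ centralizer ({t} : Set G), Commute r e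
  cardZT : Nat.card ↥(centralizer ({z} : Set G) ⊓ centralizer ({t} : Set G)) = 5184
  projZT : ∃ f : ↥(centralizer ({z} : Set G) ⊓ centralizer ({t} : Set G)) →*
      Matrix.SpecialLinearGroup (Fin 2) (ZMod 3),
    Function.Surjective f ∧ ∀ g, f g = 1 ↔ (g : G) ∈ R ⊔ (Q ⊓ centralizer ({t} : Set G))
  transE : ∀ e ∈ Q ⊓ centralizer ({t} : Set G), e ∉ zpowers z →
    ∃ c ∈ centralizer ({z} : Set G) ⊓ centralizer ({t} : Set G), ∃ w ∈ zpowers z, c * j 0 1 * c⁻¹ = e * w

/-- **The local stage.** -/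
def LocalStmt : Prop :=
  ∀ (G : Type u) [Group G] [Finite G] (S : Sylow 3 G) (Z C : Subgroup G), Hyp G S Z C → Nonempty (Local G)

end Cfsg.Agent.CoTwoThree
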